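import Groth.Agent.VBCurve.K705.Gen1Stab
import Groth.Agent.VBCurve.K703.Chi
import Groth.Agent.VBCurve.K703.Twist
import Groth.Agent.Dual.K175.FLFExt
import Groth.Agent.Coherent.K45.MonLift
import Groth.Agent.BunMod.K822.Eps

/-!
# `Ext¹` between bundles of degree zero on a curve of genus at least two (helper70)

* `exists_extH` : `Extⁿ(A, B) ≃+ Hⁿ(B ⊗ A')`, linear over the global functions;
* `exists_ne_zero` : `Ext¹(A, B) ≠ 0` for bundles of degree `0` on a curve of genus `≥ 2`;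
* `hom_eq_zero` : if `Ext¹(A, B)` is one-dimensional, then `Hom(A, B) = 0`;
* `h1_of_h0` : `H⁰(F ⊗ N) ≠ 0 → H¹(F ⊗ N) ≠ 0` for `deg F = 0`, `deg N = g - 1`.
-/

set_option autoImplicit false
universe w u

open CategoryTheory CategoryTheory.Limits AlgebraicGeometry TopologicalSpace Opposite MonoidalCategory
  CategoryTheory.Abelian

namespace K70.ExtDim

open scoped Groth.Agent.Dcoh.MonCat
open Groth.Agent Groth.Agent.LoccohB
open Groth.Agent.LoccohB.HHmap (smulHom)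

section Sch

variable {X : Scheme.{u}}

/-- `Extⁿ(A, B) ≃+ Hⁿ(B ⊗ A')`, linear over the global functions. -/
theorem exists_extH (A A' : X.Modules) [ExactPairing A A'] [HasExt.{w} X.Modules] (B : X.Modules) (n : ℕ) :
    ∃ e : Ext.{w} A B n ≃+ Coh.HH X (CohB1.tensorMod B A') n, ∀ (r : Γ(X, ⊤)) (x : Ext.{w} A B n),
      e (x.comp (Ext.mk₀ (smulHom B r)) (add_zero n)) = (show Coh.Γtop X from r) • e x := by
  let _ := BraidedCategory.exactPairing_swap A A'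
  have hc : ∀ F : X.Modules, Function.Bijective (fun g : A ⟶ F => η_ A A' ≫ g ▷ A') := fun F =>
    ⟨K45.MonLift.cm_injective A A', K45.MonLift.cm_surjective A A'⟩
  refine ⟨(K175.FLFExt.extL (L := A') A (P := A) (η_ A A') hc B n).trans
    (GammaD.extEquiv ((tensorRight A').obj B) n), fun r x => ?_⟩
  change GammaD.extEquiv _ n (K175.FLFExt.extL (L := A') A (P := A) (η_ A A') hc B n _) = _
  rw [K175.FLFExt.extL_comp_mk₀, K175.FLFExt.whiskerRight_smulHom]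
  exact (GammaD.extEquiv_comp_mk₀ _ _).trans (HHmap.map_smulHom _ _ _ _)

end Sch

section Curve

open Groth.Agent.VarietyA.DegRank K707.Base K707.Deg K707.Slope

variable (k : Type u) [Field k] [IsAlgClosed k] {Y : Scheme.{u}} [Y.Over (Spec (CommRingCat.of k))]
  [IsIntegral Y] [IsProper (Y ↘ Spec (CommRingCat.of k))] [Smooth (Y ↘ Spec (CommRingCat.of k))]

/-- `h⁰(Hom(A, B)) - h¹(Hom(A, B)) = r₁ r₂ (1 - g)` for bundles of degree zero. -/
theorem finrank_hom (hdim : topologicalKrullDim Y = 1) {A B : Y.Modules} {r₁ r₂ : ℕ}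
    (hA : FlatMod.IsFinLocFreeOfRank r₁ A) (hB : FlatMod.IsFinLocFreeOfRank r₂ B)
    (dA : Curv2.deg k Y A r₁ = 0) (dB : Curv2.deg k Y B r₂ = 0) (A' : Y.Modules) [ExactPairing A A'] :
    (Module.finrank k (Coh.HH Y (CohB1.tensorMod B A') 0) : ℤ) -
      Module.finrank k (Coh.HH Y (CohB1.tensorMod B A') 1) = r₁ * r₂ * (1 - (Curv2.genus k Y : ℤ)) := by
  have C : Crv k Y := Crv.of_smooth hdim
  have h := K708.DualDeg.euler_hom C (isFinLocFree_of_rank hA) (isFinLocFree_of_rank hB) A'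
  rw [dg_of_rank k hA, dg_of_rank k hB, dA, dB, rk_of_rank hA, rk_of_rank hB, K705.Setup.euler_eq C,
    K703.Chi.euler_structure k hdim] at h
  linarith

/-- `Ext¹(A, B) ≠ 0` for bundles of degree zero on a curve of genus at least two. -/
theorem exists_ne_zero (hdim : topologicalKrullDim Y = 1) (hg : 2 ≤ Curv2.genus k Y) [HasExt.{w} Y.Modules]
    {A B : Y.Modules} {r₁ r₂ : ℕ} (h₁ : 1 ≤ r₁) (h₂ : 1 ≤ r₂)
    (hA : FlatMod.IsFinLocFreeOfRank r₁ A) (hB : FlatMod.IsFinLocFreeOfRank r₂ B)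
    (dA : Curv2.deg k Y A r₁ = 0) (dB : Curv2.deg k Y B r₂ = 0) : ∃ x : Ext.{w} A B 1, x ≠ 0 := by
  obtain ⟨A', -, ⟨P⟩⟩ := K708.Dual.exists_dual hA
  obtain ⟨e, -⟩ := exists_extH.{w} A A' B 1
  by_contra hx
  push Not at hx
  have hs : Subsingleton (Coh.HH Y (CohB1.tensorMod B A') 1) :=
    e.symm.toEquiv.subsingleton_congr.2 ⟨fun x y => by rw [hx x, hx y]⟩
  have h := finrank_hom k hdim hA hB dA dB A'
  rw [Module.finrank_zero_of_subsingleton (M := Coh.HH Y (CohB1.tensorMod B A') 1)] at h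
  have h0 : (0 : ℤ) ≤ Module.finrank k (Coh.HH Y (CohB1.tensorMod B A') 0) := by positivity
  have hg' : (2 : ℤ) ≤ Curv2.genus k Y := by exact_mod_cast hg
  have h₁' : (1 : ℤ) ≤ r₁ := by exact_mod_cast h₁
  have h₂' : (1 : ℤ) ≤ r₂ := by exact_mod_cast h₂
  have h3 : (1 : ℤ) ≤ r₁ * r₂ := by nlinarith
  push_cast at h
  nlinarith

/-- If `Ext¹(A, B)` is one-dimensional, then `Hom(A, B) = 0` (bundles of degree zero, genus at least two). -/
theorem hom_eq_zero (hdim : topologicalKrullDim Y = 1) (hg : 2 ≤ Curv2.genus k Y) [HasExt.{w} Y.Modules]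
    {A B : Y.Modules} {r₁ r₂ : ℕ} (h₁ : 1 ≤ r₁) (h₂ : 1 ≤ r₂)
    (hA : FlatMod.IsFinLocFreeOfRank r₁ A) (hB : FlatMod.IsFinLocFreeOfRank r₂ B)
    (dA : Curv2.deg k Y A r₁ = 0) (dB : Curv2.deg k Y B r₂ = 0)
    (h : ∀ x y : Ext.{w} A B 1, x ≠ 0 → ∃ c : k,
      y = x.comp (Ext.mk₀ (smulHom B (K822.Eps.fn (Y ↘ Spec (CommRingCat.of k)) c))) (add_zero 1))
    (f : A ⟶ B) : f = 0 := by
  obtain ⟨A', hA', ⟨P⟩⟩ := K708.Dual.exists_dual hA
  obtain ⟨e, he⟩ := exists_extH.{w} A A' B 1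
  obtain ⟨e₀, -⟩ := exists_extH.{w} A A' B 0
  obtain ⟨x, hx⟩ := exists_ne_zero.{w} k hdim hg h₁ h₂ hA hB dA dB
  by_contra hf
  have h0 : e₀ (Ext.mk₀ f) ≠ 0 := fun h' => hf ((Ext.mk₀_eq_zero_iff f).1
    ((map_eq_zero_iff e₀ e₀.injective).1 h'))
  have hB' := isFinLocFree_of_rank hB
  have hc : Coh.IsCoh (CohB1.tensorMod B A') :=
    coh_of_vb (isFinLocFree_of_rank (Krr.H495.Rank.rank_tensor hB hA'))
  have := K703.Chi.finite_H k hc 0
  have := K703.Chi.finite_H k hc 1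
  have h2 : 1 ≤ Module.finrank k (Coh.HH Y (CohB1.tensorMod B A') 0) := by
    rw [Nat.one_le_iff_ne_zero]
    intro h3
    have := K703.Chi.subsingleton_of_finrank k hc h3
    exact h0 (Subsingleton.elim _ _)
  have h3 : Module.finrank k (Coh.HH Y (CohB1.tensorMod B A') 1) ≤ 1 := by
    refine finrank_le_one (e x) fun y => ?_
    obtain ⟨c, hc⟩ := h x (e.symm y) hx
    refine ⟨c, ?_⟩
    have := he (K822.Eps.fn (Y ↘ Spec (CommRingCat.of k)) c) x
    rw [← hc, AddEquiv.apply_symm_apply] at this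
    exact this.symm
  have h4 := finrank_hom k hdim hA hB dA dB A'
  have hg' : (2 : ℤ) ≤ Curv2.genus k Y := by exact_mod_cast hg
  have h₁' : (1 : ℤ) ≤ r₁ := by exact_mod_cast h₁
  have h₂' : (1 : ℤ) ≤ r₂ := by exact_mod_cast h₂
  have h5 : (1 : ℤ) ≤ r₁ * r₂ := by nlinarith
  have h2' : (1 : ℤ) ≤ Module.finrank k (Coh.HH Y (CohB1.tensorMod B A') 0) := by exact_mod_cast h2
  have h3' : (Module.finrank k (Coh.HH Y (CohB1.tensorMod B A') 1) : ℤ) ≤ 1 := by exact_mod_cast h3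
  nlinarith

omit [Smooth (Y ↘ Spec (CommRingCat.of k))] in
/-- `H⁰(F ⊗ N) ≠ 0` implies `H¹(F ⊗ N) ≠ 0` when `χ(F ⊗ N) = 0`. -/
theorem h1_of_h0 (hdim : topologicalKrullDim Y = 1) {F N : Y.Modules} {r : ℕ}
    (hF : FlatMod.IsFinLocFreeOfRank r F) (dF : Curv2.deg k Y F r = 0) (hN : PicF.IsInvertible N)
    (dN : Curv2.deg k Y N 1 = (Curv2.genus k Y : ℤ) - 1)
    (h : ¬ Subsingleton (Coh.HH Y (CohB1.tensorMod F N) 0)) :
    ¬ Subsingleton (Coh.HH Y (CohB1.tensorMod F N) 1) := by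
  intro h1
  have hc : Coh.IsCoh (CohB1.tensorMod F N) :=
    coh_of_vb (isFinLocFree_of_rank (Krr.H495.Rank.rank_tensor hF
      (Ega2.QCohLocal.isFinLocFreeOfRank_one_iff.2 hN)))
  refine h (K703.Chi.subsingleton_of_finrank k hc ?_)
  have h2 := K703.Chi.rr k hdim (CohB1.tensorMod F N) r
  rw [K703.Twist.deg_tensor k hdim hF hN, dF, dN,
    Module.finrank_zero_of_subsingleton (M := Coh.HH Y (CohB1.tensorMod F N) 1)] at h2
  push_cast at h2
  have : (Module.finrank k (Coh.HH Y (CohB1.tensorMod F N) 0) : ℤ) = 0 := by linarith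
  exact_mod_cast this

end Curve

end K70.ExtDim
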