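import Groth.Agent.BunMod.K70.StTriv
import Groth.Agent.TFCurv.K334.Final

/-!
# Stable bundles with a given determinant on a curve of genus at least two (helper70)
-/

set_option autoImplicit false
universe u

open CategoryTheory CategoryTheory.Limits AlgebraicGeometry Opposite TopologicalSpace

namespace K70.StEx

open Groth.Agent

variable (k : Type u) [Field k] [IsAlgClosed k] (X : Scheme.{u}) [X.Over (Spec (CommRingCat.of k))]
  [IsIntegral X] [IsProper (X ↘ Spec (CommRingCat.of k))] [Smooth (X ↘ Spec (CommRingCat.of k))]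

/-- Stable bundles of rank `r` with determinant `L`, for any invertible `L`. -/
theorem exists_det (hdim : topologicalKrullDim X = 1) (hg : 2 ≤ Curv2.genus k X) (r : ℕ) (hr : (r : k) ≠ 0)
    {L : X.Modules} (hL : PicF.IsInvertible L) :
    ∃ E : X.Modules, FlatMod.IsFinLocFreeOfRank r E ∧ ModFun.IsSlopeStable k X E r ∧ ExtPow.IsExtPow r E L ∧
      Curv2.deg k X E r = Curv2.deg k X L 1 := by
  have hr0 : 0 < r := Nat.pos_of_ne_zero (by rintro rfl; exact hr Nat.cast_zero)
  obtain ⟨E₀, h1, h2, h3⟩ := K334.Final.exists_isSlopeStable (k := k) (X := X) hdim hg r hr0 (Curv2.deg k X L 1)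
  exact K70.StTriv.exists_stable_det k X hdim r hr h1 h3 hL h2.symm

/-- Stable bundles of rank `r` with trivial determinant. -/
theorem exists_triv (hdim : topologicalKrullDim X = 1) (hg : 2 ≤ Curv2.genus k X) (r : ℕ) (hr : (r : k) ≠ 0) :
    ∃ E : X.Modules, FlatMod.IsFinLocFreeOfRank r E ∧ ModFun.IsSlopeStable k X E r ∧
      ExtPow.IsExtPow r E (Coh.structureModule X) ∧ Curv2.deg k X E r = 0 := by
  have hr0 : 0 < r := Nat.pos_of_ne_zero (by rintro rfl; exact hr Nat.cast_zero)
  obtain ⟨E₀, h1, h2, h3⟩ := K334.Final.exists_isSlopeStable (k := k) (X := X) hdim hg r hr0 0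
  exact K70.StTriv.exists_stable_triv k X hdim r hr h1 h3 h2

end K70.StEx
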