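import Groth.Agent.VBCurve.K413.MukTwist
import Groth.Agent.VBCurve.K658.PicRoot
import Groth.Agent.Variety.K420.DetMain
import Groth.Agent.AbSch.K451.DetMat
import Groth.Agent.Krr.H487.ExtPull

/-!
# Changing the determinant of a bundle on a smooth proper curve by a twist

`exists_twist_det`: for `E₀` of rank `r` (prime to the characteristic) and `L`, `M` invertible with
`deg L = deg E₀ + r deg M` there is an invertible `R` of degree `deg M` with `det (E₀ ⊗ R) ≅ L`;
`exists_stable_det`: hence a slope-stable bundle of rank `r` and degree `d` gives slope-stable bundles with any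
determinant of degree `d`; `exists_stable_triv`: the case of the trivial determinant.
-/

set_option autoImplicit false
set_option backward.isDefEq.respectTransparency false
universe u

open CategoryTheory CategoryTheory.Limits AlgebraicGeometry Opposite TopologicalSpace

namespace K70.StTriv

open Groth.Agent Groth.Agent.Grpsch.PicGrp Groth.Agent.Fdesc.LocGen

variable (k : Type u) [Field k] [IsAlgClosed k] (X : Scheme.{u}) [X.Over (Spec (CommRingCat.of k))]
  [IsIntegral X] [IsProper (X ↘ Spec (CommRingCat.of k))] [Smooth (X ↘ Spec (CommRingCat.of k))]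

/-- An `r`-th root of an invertible module of degree `r deg M`. -/
theorem exists_root (hdim : topologicalKrullDim X = 1) (r : ℕ) (hr : (r : k) ≠ 0) {L M : X.Modules}
    (hL : PicF.IsInvertible L) (hM : PicF.IsInvertible M)
    (h : Curv2.deg k X L 1 = r * Curv2.deg k X M 1) :
    ∃ R : X.Modules, PicF.IsInvertible R ∧ Nonempty (CohB1.tensorPow R r ≅ L) ∧
      Curv2.deg k X R 1 = Curv2.deg k X M 1 := by
  have h0 : K532.CurvePic.deg k X (mk L hL * (mk M hM ^ r)⁻¹) = 0 := by
    change Etcore.DegZero.dg k X _ = 0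
    rw [Etcore.DegZero.dg_mul k X hdim, Etcore.DegZero.dg_inv k X hdim, Etcore.DegZero.dg_pow k X hdim]
    change K532.CurvePic.deg k X (mk L hL) + -(r * K532.CurvePic.deg k X (mk M hM)) = 0
    rw [K532.CurvePic.deg_mk k X hdim, K532.CurvePic.deg_mk k X hdim, h]
    ring
  obtain ⟨d, hd⟩ := K658.PicRoot.exists_root k X hdim r hr _ h0
  obtain ⟨R, hR, hRd⟩ := exists_mk (d * mk M hM)
  have h1 : mk R hR ^ r = mk L hL := by
    rw [← hRd, mul_pow, hd, inv_mul_cancel_right]
  rw [← mk_tensorPow, mk_eq_iff] at h1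
  refine ⟨R, hR, h1, ?_⟩
  have h2 : (r : ℤ) * Curv2.deg k X R 1 = r * Curv2.deg k X M 1 := by
    rw [← h, ← K532.CurvePic.deg_mk k X hdim hR, ← K532.CurvePic.deg_mk k X hdim hL]
    change r * Etcore.DegZero.dg k X _ = Etcore.DegZero.dg k X _
    rw [← Etcore.DegZero.dg_pow k X hdim, ← mk_tensorPow]
    exact congrArg _ ((mk_eq_iff _ _).2 h1)
  have h3 : (r : ℤ) ≠ 0 := by
    rintro h4
    apply hr
    rw [Int.natCast_eq_zero.1 h4, Nat.cast_zero]
  exact mul_left_cancel₀ h3 h2

/-- Twisting by a root changes the determinant into any invertible module of the right degree. -/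
theorem exists_twist_det (hdim : topologicalKrullDim X = 1) (r : ℕ) (hr : (r : k) ≠ 0) {E₀ L M : X.Modules}
    (hE : FlatMod.IsFinLocFreeOfRank r E₀) (hL : PicF.IsInvertible L) (hM : PicF.IsInvertible M)
    (h : Curv2.deg k X L 1 = Curv2.deg k X E₀ r + r * Curv2.deg k X M 1) :
    ∃ R : X.Modules, PicF.IsInvertible R ∧ Curv2.deg k X R 1 = Curv2.deg k X M 1 ∧
      ExtPow.IsExtPow r (CohB1.tensorMod E₀ R) L := by
  have hEf := Krr.H495.Rank.isFinLocFree_of_rank hE
  obtain ⟨D, -, hD⟩ := Krr.H495.ExtExist.exists_isExtPow r _ hEf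
  have hDi := K451.DetMat.isInvertible_of_isExtPow hE hD
  have hDd := K420.DetMain.deg_det k hdim hE hD
  obtain ⟨D', hD', ⟨e⟩⟩ := exists_inverse hDi
  have hD'd := K703.Twist.deg_inv k hdim hDi hD' e
  have hLD : PicF.IsInvertible (CohB1.tensorMod L D') := isInvertible_tensorMod hL hD'
  have hLDd : Curv2.deg k X (CohB1.tensorMod L D') 1 = r * Curv2.deg k X M 1 := by
    rw [K703.Twist.deg_tensor k hdim (Ega2.QCohLocal.isFinLocFreeOfRank_one_iff.2 hL) hD', hD'd, ← hDd, h]
    push_cast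
    ring
  obtain ⟨R, hR, ⟨eR⟩, hRd⟩ := exists_root k X hdim r hr hLD hM hLDd
  refine ⟨R, hR, hRd, ?_⟩
  have hR1 : FlatMod.IsFinLocFreeOfRank 1 R := Ega2.QCohLocal.isFinLocFreeOfRank_one_iff.2 hR
  have hER := Krr.H495.Rank.rank_tensor hE hR1
  obtain ⟨D₁, -, hD₁⟩ := Krr.H495.ExtExist.exists_isExtPow r _ (Krr.H495.Rank.isFinLocFree_of_rank hER)
  obtain ⟨e1⟩ := K875.ExtTwist.nonempty_iso_twist hEf hR1 hD₁ hD
  refine Krr.H487.ExtPull.isExtPow_of_iso hD₁ (e1 ≪≫ ?_)
  have h1 : mk (CohB1.tensorMod D (CohB1.tensorPow R r)) (isInvertible_tensorMod hDi (isInvertible_tensorPow hR r)) =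
      mk L hL := by
    rw [← mk_mul_mk hDi (isInvertible_tensorPow hR r), mk_congr (hM := hLD) eR, ← mk_mul_mk hL hD',
      mul_left_comm, mk_mul_mk hDi hD', (mk_eq_one_iff _).2 ⟨e⟩, mul_one]
  exact ((mk_eq_iff _ _).1 h1).some

/-- A slope-stable bundle of rank `r` and degree `deg L` gives one with determinant `L`. -/
theorem exists_stable_det (hdim : topologicalKrullDim X = 1) (r : ℕ) (hr : (r : k) ≠ 0) {E₀ L : X.Modules}
    (hE : FlatMod.IsFinLocFreeOfRank r E₀) (hst : ModFun.IsSlopeStable k X E₀ r) (hL : PicF.IsInvertible L)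
    (h : Curv2.deg k X L 1 = Curv2.deg k X E₀ r) :
    ∃ E : X.Modules, FlatMod.IsFinLocFreeOfRank r E ∧ ModFun.IsSlopeStable k X E r ∧ ExtPow.IsExtPow r E L ∧
      Curv2.deg k X E r = Curv2.deg k X L 1 := by
  have hO : PicF.IsInvertible (Coh.structureModule X) := isInvertible_structureModule
  have hO0 : Curv2.deg k X (Coh.structureModule X) 1 = 0 := K703.Chi.deg_structure k
  obtain ⟨R, hR, hRd, hdet⟩ := exists_twist_det k X hdim r hr hE hL hO (by rw [h, hO0]; ring)
  have hE' : FlatMod.IsFinLocFreeOfRank r (CohB1.tensorMod E₀ R) := by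
    have := Krr.H495.Rank.rank_tensor hE (Ega2.QCohLocal.isFinLocFreeOfRank_one_iff.2 hR)
    rwa [mul_one] at this
  exact ⟨_, hE', K704.Muk.Tw.isSlopeStable_tensor k hdim hE hR hst, hdet, K420.DetMain.deg_det k hdim hE' hdet⟩

/-- A slope-stable bundle of rank `r` and degree `0` gives one with trivial determinant. -/
theorem exists_stable_triv (hdim : topologicalKrullDim X = 1) (r : ℕ) (hr : (r : k) ≠ 0) {E₀ : X.Modules}
    (hE : FlatMod.IsFinLocFreeOfRank r E₀) (hst : ModFun.IsSlopeStable k X E₀ r) (h : Curv2.deg k X E₀ r = 0) :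
    ∃ E : X.Modules, FlatMod.IsFinLocFreeOfRank r E ∧ ModFun.IsSlopeStable k X E r ∧
      ExtPow.IsExtPow r E (Coh.structureModule X) ∧ Curv2.deg k X E r = 0 := by
  have hO0 : Curv2.deg k X (Coh.structureModule X) 1 = 0 := K703.Chi.deg_structure k
  obtain ⟨E, h1, h2, h3, h4⟩ := exists_stable_det k X hdim r hr hE hst isInvertible_structureModule (by rw [h, hO0])
  exact ⟨E, h1, h2, h3, by rw [h4, hO0]⟩

end K70.StTriv
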